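import Mathlib
import Groth.Agent.Lib.AugId.Graded

/-!
# Bézout's theorem for two plane curves without common point at infinity, affine form
-/

set_option autoImplicit false
universe u

open MvPolynomial

namespace GrothLib.BezoutAff

variable (k : Type u) [Field k]

/-- Dehomogenisation at the last variable. -/
noncomputable def deh : MvPolynomial (Fin 3) k →ₐ[k] MvPolynomial (Fin 2) k :=
  aeval (Fin.cons (X 0) (Fin.cons (X 1) (Fin.cons 1 Fin.elim0)) : Fin 3 → MvPolynomial (Fin 2) k)

/-- Restriction to the line at infinity. -/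
noncomputable def atInf : MvPolynomial (Fin 3) k →ₐ[k] MvPolynomial (Fin 2) k :=
  aeval (Fin.cons (X 0) (Fin.cons (X 1) (Fin.cons 0 Fin.elim0)) : Fin 3 → MvPolynomial (Fin 2) k)

/-- Extension of a form at infinity. -/
noncomputable def lft : MvPolynomial (Fin 2) k →ₐ[k] MvPolynomial (Fin 3) k :=
  rename (Fin.castSucc : Fin 2 → Fin 3)

theorem atInf_lft (p : MvPolynomial (Fin 2) k) : atInf k (lft k p) = p := by
  rw [atInf, lft, aeval_rename]
  conv_rhs => rw [← aeval_X_left_apply p]
  refine congrArg (fun h => aeval h p) (funext fun i => ?_)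
  fin_cases i <;> rfl

theorem deh_lft (p : MvPolynomial (Fin 2) k) : deh k (lft k p) = p := by
  rw [deh, lft, aeval_rename]
  conv_rhs => rw [← aeval_X_left_apply p]
  refine congrArg (fun h => aeval h p) (funext fun i => ?_)
  fin_cases i <;> rfl

theorem X_two_dvd_sub (h : MvPolynomial (Fin 3) k) : (X 2 : MvPolynomial (Fin 3) k) ∣ h - lft k (atInf k h) := by
  induction h using MvPolynomial.induction_on with
  | C a => simp [lft, atInf]
  | add a b ha hb =>
    have := dvd_add ha hb
    rwa [show a - lft k (atInf k a) + (b - lft k (atInf k b)) = a + b - lft k (atInf k (a + b)) by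
      rw [map_add, map_add]; ring] at this
  | mul_X a i ha =>
    rw [map_mul, map_mul]
    fin_cases i
    · have hX : lft k (atInf k (X 0)) = X 0 := by simp [lft, atInf]
      show _ ∣ a * X 0 - lft k (atInf k a) * lft k (atInf k (X 0))
      rw [hX, ← sub_mul]
      exact ha.mul_right _
    · have hX : lft k (atInf k (X 1)) = X 1 := by simp [lft, atInf]
      show _ ∣ a * X 1 - lft k (atInf k a) * lft k (atInf k (X 1))
      rw [hX, ← sub_mul]
      exact ha.mul_right _
    · have hX : lft k (atInf k (X 2)) = 0 := by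
        rw [show atInf k (X 2) = 0 from (aeval_X _ _).trans rfl, map_zero]
      show _ ∣ a * X 2 - lft k (atInf k a) * lft k (atInf k (X 2))
      rw [hX, mul_zero, sub_zero]
      exact dvd_mul_left _ _

variable {k}

/-- `T` is regular modulo two forms without common zero at infinity. -/
theorem mem_of_X_two_mul {f g h : MvPolynomial (Fin 3) k} (hg0 : atInf k g ≠ 0)
    (hT : IsRelPrime (atInf k f) (atInf k g)) (hmem : X 2 * h ∈ Ideal.span {f, g}) :
    h ∈ Ideal.span {f, g} := by
  obtain ⟨A, B, hAB⟩ := Ideal.mem_span_pair.1 hmem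
  have h0 : atInf k A * atInf k f + atInf k B * atInf k g = 0 := by
    have := congrArg (atInf k) hAB
    rwa [map_add, map_mul, map_mul, map_mul,
      show atInf k (X 2) = 0 from (aeval_X _ _).trans rfl, zero_mul] at this
  obtain ⟨c, hc⟩ : atInf k g ∣ atInf k A := by
    refine (hT.symm).dvd_of_dvd_mul_right ⟨-atInf k B, ?_⟩
    linear_combination h0
  have hB : atInf k B = -(c * atInf k f) := by
    refine mul_right_cancel₀ hg0 ?_
    rw [hc] at h0
    linear_combination h0
  obtain ⟨A', hA'⟩ := X_two_dvd_sub k (A - lft k c * g)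
  obtain ⟨B', hB'⟩ := X_two_dvd_sub k (B + lft k c * f)
  rw [show atInf k (A - lft k c * g) = 0 by rw [map_sub, map_mul, atInf_lft, hc]; ring,
    map_zero, sub_zero] at hA'
  rw [show atInf k (B + lft k c * f) = 0 by rw [map_add, map_mul, atInf_lft, hB]; ring,
    map_zero, sub_zero] at hB'
  refine Ideal.mem_span_pair.2 ⟨A', B', ?_⟩
  refine mul_left_cancel₀ (X_ne_zero (2 : Fin 3) (R := k)) ?_
  linear_combination hAB - f * hA' - g * hB'

theorem mem_of_X_two_pow_mul {f g h : MvPolynomial (Fin 3) k} (hg0 : atInf k g ≠ 0)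
    (hT : IsRelPrime (atInf k f) (atInf k g)) (N : ℕ) (hmem : X 2 ^ N * h ∈ Ideal.span {f, g}) :
    h ∈ Ideal.span {f, g} := by
  induction N with
  | zero => simpa using hmem
  | succ N ih => exact ih (mem_of_X_two_mul hg0 hT (by rwa [← mul_assoc, ← pow_succ']))

theorem eval₂_smul {L : Type u} [CommRing L] {h : MvPolynomial (Fin 3) k} {s : ℕ} (hh : h.IsHomogeneous s)
    (ψ : k →+* L) (t : L) (x : Fin 3 → L) :
    eval₂ ψ (fun i => t * x i) h = t ^ s * eval₂ ψ x h := by
  rw [eval₂_eq, eval₂_eq, Finset.mul_sum]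
  refine Finset.sum_congr rfl fun d hd => ?_
  simp_rw [mul_pow, Finset.prod_mul_distrib, Finset.prod_pow_eq_pow_sum, ← hh.degree_eq_sum_deg_support hd]
  ring

/-- A form vanishing on the affine intersection lies in the ideal of the two forms. -/
theorem mem_of_deh_mem {f g h : MvPolynomial (Fin 3) k} {n m s : ℕ} (hf : f.IsHomogeneous n)
    (hg : g.IsHomogeneous m) (hh : h.IsHomogeneous s) (hg0 : atInf k g ≠ 0)
    (hT : IsRelPrime (atInf k f) (atInf k g)) (hmem : deh k h ∈ Ideal.span {deh k f, deh k g}) :
    h ∈ Ideal.span {f, g} := by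
  let L := Localization.Away (X 2 : MvPolynomial (Fin 3) k)
  let a : MvPolynomial (Fin 3) k →+* L := algebraMap _ L
  obtain ⟨t, ht⟩ : ∃ t : L, t * a (X 2) = 1 :=
    ⟨IsLocalization.Away.invSelf (X 2 : MvPolynomial (Fin 3) k), by
      rw [mul_comm]; exact IsLocalization.Away.mul_invSelf _⟩
  let ρ : MvPolynomial (Fin 2) k →+* L := eval₂Hom (a.comp C) fun i => t * a (X i.castSucc)
  have key : ∀ {p : MvPolynomial (Fin 3) k} {d : ℕ}, p.IsHomogeneous d → ρ (deh k p) = t ^ d * a p := by
    intro p d hp
    have h1 : ρ.comp (deh k).toRingHom = eval₂Hom (a.comp C) fun i => t * a (X i) := by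
      refine MvPolynomial.ringHom_ext (fun c => by simp [ρ, deh]) fun i => ?_
      fin_cases i
      · simp [ρ, deh]
      · simp [ρ, deh]
      · show ρ (deh k (X 2)) = eval₂Hom (a.comp C) (fun i => t * a (X i)) (X 2)
        rw [show deh k (X 2) = 1 from (aeval_X _ _).trans rfl, map_one, eval₂Hom_X', ht]
    have h2 := RingHom.congr_fun h1 p
    refine h2.trans ?_
    rw [coe_eval₂Hom, eval₂_smul hp]
    congr 1
    show eval₂Hom (a.comp C) (fun i => a (X i)) p = a p
    rw [show eval₂Hom (a.comp C) (fun i => a (X i)) = a from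
      MvPolynomial.ringHom_ext (fun c => by simp) fun i => by simp]
  have h3 : a h ∈ (Ideal.span {f, g}).map a := by
    have h4 := Ideal.mem_map_of_mem ρ hmem
    rw [Ideal.map_span, Set.image_pair, key hf, key hg, key hh] at h4
    have h5 : a (X 2) ^ s * (t ^ s * a h) ∈ (Ideal.span {f, g}).map a := by
      refine Ideal.mul_mem_left _ _ ((Ideal.span_le.2 ?_) h4)
      rintro z (rfl | rfl)
      · exact Ideal.mul_mem_left _ _ (Ideal.mem_map_of_mem a (Ideal.subset_span (Set.mem_insert _ _)))
      · exact Ideal.mul_mem_left _ _ (Ideal.mem_map_of_mem a (Ideal.subset_span (Set.mem_insert_of_mem _ rfl)))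
    rwa [← mul_assoc, ← mul_pow, mul_comm (a (X 2)), ht, one_pow, one_mul] at h5
  obtain ⟨_, ⟨N, rfl⟩, hN⟩ :=
    (IsLocalization.algebraMap_mem_map_algebraMap_iff (Submonoid.powers (X 2 : MvPolynomial (Fin 3) k)) L _ h).1 h3
  exact mem_of_X_two_pow_mul hg0 hT N hN

theorem homogeneousComponent_mul {f : MvPolynomial (Fin 3) k} {n : ℕ} (hf : f.IsHomogeneous n)
    (A : MvPolynomial (Fin 3) k) {s : ℕ} (hs : n ≤ s) :
    homogeneousComponent s (A * f) = homogeneousComponent (s - n) A * f := by
  conv_lhs => rw [← sum_homogeneousComponent A, Finset.sum_mul, map_sum]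
  rw [Finset.sum_eq_single (s - n)]
  · rw [homogeneousComponent_eq_self]
    have := (homogeneousComponent_isHomogeneous (s - n) A).mul hf
    rwa [Nat.sub_add_cancel hs] at this
  · intro j _ hj
    rw [homogeneousComponent_of_mem ((homogeneousComponent_isHomogeneous j A).mul hf), if_neg]
    omega
  · intro hj
    rw [Finset.mem_range] at hj
    rw [show homogeneousComponent (s - n) A = 0 from homogeneousComponent_eq_zero (h := by omega), zero_mul,
      map_zero]

/-- Forms of degree `t`. -/
abbrev Forms (k : Type u) [Field k] (t : ℕ) : Submodule k (MvPolynomial (Fin 3) k) :=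
  homogeneousSubmodule (Fin 3) k t

instance (t : ℕ) : Module.Finite k (Forms k t) :=
  Module.Finite.iff_fg.2 (homogeneousSubmodule_fg (σ := Fin 3) (R := k) t)

theorem finrank_forms (t : ℕ) : Module.finrank k (Forms k t) * 2 = (t + 2) * (t + 1) := by
  rw [GrothLib.AugId.finrank_homogeneous, show 3 + t - 1 = t + 2 by omega, ← Nat.choose_symm (by omega : t ≤ t + 2),
    show t + 2 - t = 2 by omega, Nat.choose_two_right, show t + 2 - 1 = t + 1 by omega]
  exact Nat.div_two_mul_two_of_even (mul_comm (t + 1) (t + 2) ▸ Nat.even_mul_succ_self (t + 1))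

theorem main {n m : ℕ} (f g : MvPolynomial (Fin 3) k) (hf : f.IsHomogeneous n) (hg : g.IsHomogeneous m)
    (hg0 : g ≠ 0) (hfg : IsRelPrime f g)
    (hT : IsRelPrime (atInf k f) (atInf k g)) (hg1 : atInf k g ≠ 0) :
    Module.finrank k (MvPolynomial (Fin 2) k ⧸ Ideal.span {deh k f, deh k g}) = n * m := by
  set I := Ideal.span {deh k f, deh k g}
  let W : ℕ → Submodule k (MvPolynomial (Fin 2) k ⧸ I) := fun s =>
    (Forms k s).map ((Ideal.Quotient.mkₐ k I).comp (deh k)).toLinearMap
  have hW : ∀ s, n + m ≤ s → Module.finrank k (W s) = n * m := by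
    intro s hs
    let L : Forms k s →ₗ[k] MvPolynomial (Fin 2) k ⧸ I :=
      ((Ideal.Quotient.mkₐ k I).comp (deh k)).toLinearMap ∘ₗ (Forms k s).subtype
    have hrange : LinearMap.range L = W s := by
      rw [LinearMap.range_comp, Submodule.range_subtype]
    let Φ : (Forms k (s - n) × Forms k (s - m)) →ₗ[k] MvPolynomial (Fin 3) k :=
      LinearMap.coprod ((LinearMap.mulRight k f) ∘ₗ (Forms k (s - n)).subtype)
        ((LinearMap.mulRight k g) ∘ₗ (Forms k (s - m)).subtype)
    have hΦ : LinearMap.range Φ = (LinearMap.ker L).map (Forms k s).subtype := by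
      apply le_antisymm
      · rintro _ ⟨⟨⟨a, ha⟩, ⟨b, hb⟩⟩, rfl⟩
        have h1 : a * f + b * g ∈ Forms k s := by
          refine add_mem ?_ ?_
          · have := (ha : IsHomogeneous a (s - n)).mul hf
            rwa [Nat.sub_add_cancel (by omega)] at this
          · have := (hb : IsHomogeneous b (s - m)).mul hg
            rwa [Nat.sub_add_cancel (by omega)] at this
        refine ⟨⟨_, h1⟩, ?_, rfl⟩
        show Ideal.Quotient.mk I (deh k (a * f + b * g)) = 0
        rw [Ideal.Quotient.eq_zero_iff_mem, map_add, map_mul, map_mul]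
        exact add_mem (Ideal.mul_mem_left _ _ (Ideal.subset_span (Set.mem_insert _ _)))
          (Ideal.mul_mem_left _ _ (Ideal.subset_span (Set.mem_insert_of_mem _ rfl)))
      · rintro _ ⟨⟨h, hh⟩, hker, rfl⟩
        have hmem : deh k h ∈ I := Ideal.Quotient.eq_zero_iff_mem.1 hker
        obtain ⟨A, B, hAB⟩ := Ideal.mem_span_pair.1 (mem_of_deh_mem hf hg hh hg1 hT hmem)
        refine ⟨⟨⟨homogeneousComponent (s - n) A, homogeneousComponent_isHomogeneous _ _⟩,
          ⟨homogeneousComponent (s - m) B, homogeneousComponent_isHomogeneous _ _⟩⟩, ?_⟩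
        show homogeneousComponent (s - n) A * f + homogeneousComponent (s - m) B * g = h
        rw [← homogeneousComponent_mul hf A (by omega), ← homogeneousComponent_mul hg B (by omega), ← map_add, hAB,
          homogeneousComponent_eq_self hh]
    let Ψ : Forms k (s - (n + m)) →ₗ[k] Forms k (s - n) × Forms k (s - m) :=
      LinearMap.prod
        (((LinearMap.mulRight k g) ∘ₗ (Forms k (s - (n + m))).subtype).codRestrict _ fun c => by
          have := (c.2 : IsHomogeneous _ _).mul hg
          rwa [show s - (n + m) + m = s - n by omega] at this)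
        (-(((LinearMap.mulRight k f) ∘ₗ (Forms k (s - (n + m))).subtype).codRestrict _ fun c => by
          have := (c.2 : IsHomogeneous _ _).mul hf
          rwa [show s - (n + m) + n = s - m by omega] at this))
    have hΨ : LinearMap.range Ψ = LinearMap.ker Φ := by
      apply le_antisymm
      · rintro _ ⟨c, rfl⟩
        show (c : MvPolynomial (Fin 3) k) * g * f + -((c : MvPolynomial (Fin 3) k) * f) * g = 0
        ring
      · rintro ⟨⟨a, ha⟩, ⟨b, hb⟩⟩ hab
        replace hab : a * f + b * g = 0 := hab
        obtain ⟨c, hc⟩ : g ∣ a := hfg.symm.dvd_of_dvd_mul_right ⟨-b, by linear_combination hab⟩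
        have hc' : a = homogeneousComponent (s - (n + m)) c * g := by
          have := congrArg (homogeneousComponent (s - n)) (hc.trans (mul_comm g c))
          rwa [homogeneousComponent_eq_self ha, homogeneousComponent_mul hg c (by omega),
            show s - n - m = s - (n + m) by omega] at this
        refine ⟨⟨_, homogeneousComponent_isHomogeneous (s - (n + m)) c⟩, Prod.ext (Subtype.ext hc'.symm)
          (Subtype.ext ?_)⟩
        show -(homogeneousComponent (s - (n + m)) c * f) = b
        refine mul_right_cancel₀ hg0 ?_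
        rw [hc'] at hab
        linear_combination -hab
    have hΨinj : Function.Injective Ψ := fun c c' hcc => by
      have := congrArg (fun z => ((z.1 : Forms k (s - n)) : MvPolynomial (Fin 3) k)) hcc
      exact Subtype.ext (mul_right_cancel₀ hg0 this)
    have e1 := L.finrank_range_add_finrank_ker
    have e2 := Φ.finrank_range_add_finrank_ker
    have e3 := Ψ.finrank_range_add_finrank_ker
    rw [LinearMap.ker_eq_bot.2 hΨinj, finrank_bot, add_zero, hΨ] at e3
    rw [hΦ, (Submodule.equivMapOfInjective _ (Forms k s).injective_subtype _).symm.finrank_eq, e3,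
      Module.finrank_prod] at e2
    rw [hrange] at e1
    have d0 := finrank_forms (k := k) s
    have d1 := finrank_forms (k := k) (s - n)
    have d2 := finrank_forms (k := k) (s - m)
    have d3 := finrank_forms (k := k) (s - (n + m))
    obtain ⟨r, rfl⟩ := Nat.exists_eq_add_of_le hs
    rw [show n + m + r - n = m + r by omega] at e2 d1
    rw [show n + m + r - m = n + r by omega] at e2 d2
    rw [show n + m + r - (n + m) = r by omega] at e2 d3
    nlinarith
  have hmono : ∀ s, W s ≤ W (s + 1) := by
    rintro s _ ⟨h, hh, rfl⟩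
    refine ⟨X 2 * h, ?_, ?_⟩
    · have := (isHomogeneous_X k (2 : Fin 3)).mul (hh : IsHomogeneous h s)
      rwa [add_comm] at this
    · show Ideal.Quotient.mk I (deh k (X 2 * h)) = Ideal.Quotient.mk I (deh k h)
      rw [map_mul, show deh k (X 2) = 1 from (aeval_X _ _).trans rfl, one_mul]
  have hmono' := monotone_nat_of_le_succ hmono
  have hfin : ∀ s, Module.Finite k (W s) := fun s =>
    Module.Finite.iff_fg.2 ((Module.Finite.iff_fg.1 (inferInstance : Module.Finite k (Forms k s))).map _)
  have hstat : ∀ s, n + m ≤ s → W s = W (n + m) := fun s hs =>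
    (Submodule.eq_of_le_of_finrank_eq (hmono' hs) ((hW _ le_rfl).trans (hW s hs).symm)).symm
  have htop : W (n + m) = ⊤ := by
    refine eq_top_iff.2 fun z _ => ?_
    obtain ⟨p, rfl⟩ := Ideal.Quotient.mk_surjective z
    rw [← deh_lft k p, ← sum_homogeneousComponent (lft k p), map_sum, map_sum]
    refine Submodule.sum_mem _ fun j _ => ?_
    have h1 : Ideal.Quotient.mk I (deh k (homogeneousComponent j (lft k p))) ∈ W j :=
      ⟨_, homogeneousComponent_isHomogeneous j _, rfl⟩
    have h2 := hmono' (le_max_left j (n + m)) h1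
    rwa [hstat _ (le_max_right _ _)] at h2
  have hdim := hW _ le_rfl
  rw [htop, finrank_top] at hdim
  exact hdim

end GrothLib.BezoutAff
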