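import Groth.Agent.Lib.BezoutAff.Basic

/-! # Graded pieces of the quotient by two plane curves without common component -/

set_option autoImplicit false
universe u

open MvPolynomial

namespace GrothLib.BezoutAff

variable {k : Type u} [Field k]

theorem finrank_piece_quotient {n m s : ℕ} (f g : MvPolynomial (Fin 3) k) (hf : f.IsHomogeneous n)
    (hg : g.IsHomogeneous m) (hg0 : g ≠ 0) (hfg : IsRelPrime f g) (hs : n + m ≤ s) :
    Module.finrank k (↥(Forms k s) ⧸ Submodule.comap (Forms k s).subtype
      ((Ideal.span ({f, g} : Set (MvPolynomial (Fin 3) k))).restrictScalars k)) = n * m := by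
  set K := Submodule.comap (Forms k s).subtype
    ((Ideal.span ({f, g} : Set (MvPolynomial (Fin 3) k))).restrictScalars k)
  let Φ : (Forms k (s - n) × Forms k (s - m)) →ₗ[k] MvPolynomial (Fin 3) k :=
    LinearMap.coprod ((LinearMap.mulRight k f) ∘ₗ (Forms k (s - n)).subtype)
      ((LinearMap.mulRight k g) ∘ₗ (Forms k (s - m)).subtype)
  have hΦ : LinearMap.range Φ = K.map (Forms k s).subtype := by
    apply le_antisymm
    · rintro _ ⟨⟨⟨a, ha⟩, ⟨b, hb⟩⟩, rfl⟩
      have h1 : a * f + b * g ∈ Forms k s := by
        refine add_mem ?_ ?_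
        · have := (ha : IsHomogeneous a (s - n)).mul hf
          rwa [Nat.sub_add_cancel (by omega)] at this
        · have := (hb : IsHomogeneous b (s - m)).mul hg
          rwa [Nat.sub_add_cancel (by omega)] at this
      exact ⟨⟨_, h1⟩, Ideal.mem_span_pair.2 ⟨a, b, rfl⟩, rfl⟩
    · rintro _ ⟨⟨h, hh⟩, hmem, rfl⟩
      obtain ⟨A, B, hAB⟩ := Ideal.mem_span_pair.1 hmem
      refine ⟨⟨⟨homogeneousComponent (s - n) A, homogeneousComponent_isHomogeneous _ _⟩,
        ⟨homogeneousComponent (s - m) B, homogeneousComponent_isHomogeneous _ _⟩⟩, ?_⟩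
      show homogeneousComponent (s - n) A * f + homogeneousComponent (s - m) B * g = h
      rw [← homogeneousComponent_mul hf A (by omega), ← homogeneousComponent_mul hg B (by omega), ← map_add]
      rw [show A * f + B * g = h from hAB, homogeneousComponent_eq_self hh]
  let Ψ : Forms k (s - (n + m)) →ₗ[k] Forms k (s - n) × Forms k (s - m) :=
    LinearMap.prod
      (((LinearMap.mulRight k g) ∘ₗ (Forms k (s - (n + m))).subtype).codRestrict _ fun c => by
        have := (c.2 : IsHomogeneous _ _).mul hg
        rwa [show s - (n + m) + m = s - n by omega] at this)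
      (-(((LinearMap.mulRight k f) ∘ₗ (Forms k (s - (n + m))).subtype).codRestrict _ fun c => by
        have := (c.2 : IsHomogeneous _ _).mul hf
        rwa [show s - (n + m) + n = s - m by omega] at this))
  have hΨ : LinearMap.range Ψ = LinearMap.ker Φ := by
    apply le_antisymm
    · rintro _ ⟨c, rfl⟩
      show (c : MvPolynomial (Fin 3) k) * g * f + -((c : MvPolynomial (Fin 3) k) * f) * g = 0
      ring
    · rintro ⟨⟨a, ha⟩, ⟨b, hb⟩⟩ hab
      replace hab : a * f + b * g = 0 := hab
      obtain ⟨c, hc⟩ : g ∣ a := hfg.symm.dvd_of_dvd_mul_right ⟨-b, by linear_combination hab⟩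
      have hc' : a = homogeneousComponent (s - (n + m)) c * g := by
        have := congrArg (homogeneousComponent (s - n)) (hc.trans (mul_comm g c))
        rwa [homogeneousComponent_eq_self ha, homogeneousComponent_mul hg c (by omega),
          show s - n - m = s - (n + m) by omega] at this
      refine ⟨⟨_, homogeneousComponent_isHomogeneous (s - (n + m)) c⟩, Prod.ext (Subtype.ext hc'.symm)
        (Subtype.ext ?_)⟩
      show -(homogeneousComponent (s - (n + m)) c * f) = b
      refine mul_right_cancel₀ hg0 ?_
      rw [hc'] at hab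
      linear_combination -hab
  have hΨinj : Function.Injective Ψ := fun c c' hcc => by
    have := congrArg (fun z => ((z.1 : Forms k (s - n)) : MvPolynomial (Fin 3) k)) hcc
    exact Subtype.ext (mul_right_cancel₀ hg0 this)
  have e1 := K.finrank_quotient_add_finrank
  have e2 := Φ.finrank_range_add_finrank_ker
  have e3 := Ψ.finrank_range_add_finrank_ker
  rw [LinearMap.ker_eq_bot.2 hΨinj, finrank_bot, add_zero, hΨ] at e3
  rw [hΦ, (Submodule.equivMapOfInjective _ (Forms k s).injective_subtype _).symm.finrank_eq, e3,
    Module.finrank_prod] at e2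
  have d0 := finrank_forms (k := k) s
  have d1 := finrank_forms (k := k) (s - n)
  have d2 := finrank_forms (k := k) (s - m)
  have d3 := finrank_forms (k := k) (s - (n + m))
  obtain ⟨r, rfl⟩ := Nat.exists_eq_add_of_le hs
  rw [show n + m + r - n = m + r by omega] at e2 d1
  rw [show n + m + r - m = n + r by omega] at e2 d2
  rw [show n + m + r - (n + m) = r by omega] at e2 d3
  nlinarith

end GrothLib.BezoutAff
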